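import Groth.Prelude.Def_W4c6modpairsegaMP
import Mathlib.AlgebraicGeometry.IdealSheaf.Functorial
import Mathlib.RingTheory.Valuation.LocalSubring
import Mathlib.RingTheory.Valuation.ValuationRing
import Mathlib.RingTheory.Ideal.MinimalPrime.Localization
import Mathlib.RingTheory.Localization.AtPrime.Basic

/-! Valuation rings test equality of modulus ideals. -/

namespace Groth.Agent.ValTest

open AlgebraicGeometry CategoryTheory Scheme

universe u

/-- A valuation ring in which a given element generates every prime above zero, at a given maximal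
ideal. -/
theorem exists_valuation_point {A : Type u} [CommRing A] {a : A} (ha : a ∈ nonZeroDivisors A)
    (m : Ideal A) [m.IsMaximal] :
    ∃ (R : Type u) (_ : CommRing R) (_ : IsDomain R) (_ : ValuationRing R) (φ : A →+* R),
      φ a ≠ 0 ∧ (∀ Q : Ideal R, Q.IsPrime → (φ a ∉ Q ↔ Q = ⊥)) ∧
      ∀ c ∈ m, φ c ∈ IsLocalRing.maximalIdeal R := by
  classical
  by_cases ham : a ∈ m
  swap
  · letI := Ideal.Quotient.field m
    refine ⟨A ⧸ m, inferInstance, inferInstance, inferInstance, Ideal.Quotient.mk m, ?_, ?_, ?_⟩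
    · rwa [Ne, Ideal.Quotient.eq_zero_iff_mem]
    · intro Q hQ
      have : Q = ⊥ := (Ideal.eq_bot_or_top Q).resolve_right hQ.ne_top
      subst this
      simp [Ideal.Quotient.eq_zero_iff_mem, ham]
    · intro c hc
      rw [Ideal.Quotient.eq_zero_iff_mem.mpr hc]
      exact zero_mem _
  obtain ⟨q, hq, hqm⟩ := Ideal.exists_minimalPrimes_le (bot_le : (⊥ : Ideal A) ≤ m)
  haveI : q.IsPrime := hq.1.1
  have haq : a ∉ q := fun h => notMem_nonZeroDivisors_of_mem_mem_minimalPrimes h hq ha
  let K := FractionRing (A ⧸ q)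
  let ψ : A →+* K := (algebraMap (A ⧸ q) K).comp (Ideal.Quotient.mk q)
  have hψ : ∀ c, ψ c = 0 ↔ c ∈ q := fun c => by
    rw [RingHom.comp_apply, map_eq_zero_iff _ (IsFractionRing.injective (A ⧸ q) K),
      Ideal.Quotient.eq_zero_iff_mem]
  have hunit : ∀ s : m.primeCompl, IsUnit (ψ s) := fun s => isUnit_iff_ne_zero.mpr fun h =>
    s.2 (hqm ((hψ s).mp h))
  let f : Localization.AtPrime m →+* K := IsLocalization.lift hunit
  have hf : ∀ c, f (algebraMap A _ c) = ψ c := fun c => IsLocalization.lift_eq hunit c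
  obtain ⟨V, hV, hloc⟩ := IsLocalRing.exists_factor_valuationRing (R := Localization.AtPrime m) f
  let g : A →+* V := (f.codRestrict V.toSubring hV).comp (algebraMap A (Localization.AtPrime m))
  have hgm : ∀ c ∈ m, g c ∈ IsLocalRing.maximalIdeal V := fun c hc hu => by
    have := hloc.map_nonunit _ hu
    exact ((IsLocalization.AtPrime.isUnit_to_map_iff (Localization.AtPrime m) m c).mp this) hc
  have hga : g a ≠ 0 := fun h => haq ((hψ a).mp (by rw [← hf]; exact congrArg Subtype.val h))
  have hganu : ¬ IsUnit (g a) := hgm a ham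
  let P : Ideal V :=
    { carrier := {y | ∀ n : ℕ, g a ^ n ∣ y}
      add_mem' := fun h1 h2 n => dvd_add (h1 n) (h2 n)
      zero_mem' := fun n => dvd_zero _
      smul_mem' := fun c y h n => Dvd.dvd.mul_left (h n) c }
  have hP : P.IsPrime := by
    refine ⟨fun h => hganu ?_, fun {y z} hyz => ?_⟩
    · have : (1 : V) ∈ P := h ▸ Submodule.mem_top
      exact isUnit_of_dvd_one (by simpa using this 1)
    · by_contra hn
      push Not at hn
      obtain ⟨hy, hz⟩ := hn
      change ¬ ∀ n : ℕ, g a ^ n ∣ y at hy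
      change ¬ ∀ n : ℕ, g a ^ n ∣ z at hz
      push Not at hy hz
      obtain ⟨n, hn⟩ := hy
      obtain ⟨l, hl⟩ := hz
      have h1 : y ∣ g a ^ n := (ValuationRing.dvd_total (g a ^ n) y).resolve_left hn
      have h2 : z ∣ g a ^ l := (ValuationRing.dvd_total (g a ^ l) z).resolve_left hl
      have h3 : g a ^ (n + l + 1) ∣ g a ^ (n + l) :=
        (hyz (n + l + 1)).trans (by rw [pow_add (g a) n l]; exact mul_dvd_mul h1 h2)
      exact hganu (isUnit_of_dvd_one (by
        rw [pow_succ'] at h3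
        exact (mul_dvd_mul_iff_right (pow_ne_zero _ hga)).mp (by simpa using h3)))
  haveI := hP
  haveI : ValuationRing (V ⧸ P) :=
    Function.Surjective.valuationRing (Ideal.Quotient.mk P) Ideal.Quotient.mk_surjective
  have haP : g a ∉ P := fun h => hganu (isUnit_of_dvd_one (by
    have := h 2
    rw [pow_two] at this
    exact (mul_dvd_mul_iff_right hga).mp (by simpa using this)))
  refine ⟨V ⧸ P, inferInstance, inferInstance, inferInstance, (Ideal.Quotient.mk P).comp g, ?_, ?_, ?_⟩
  · rwa [RingHom.comp_apply, Ne, Ideal.Quotient.eq_zero_iff_mem]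
  · intro Q hQ
    refine ⟨fun hna => eq_bot_iff.mpr fun y hy => ?_, fun h => ?_⟩
    · obtain ⟨y, rfl⟩ := Ideal.Quotient.mk_surjective y
      rw [Ideal.mem_bot, Ideal.Quotient.eq_zero_iff_mem]
      by_contra hyP
      change ¬ ∀ n : ℕ, g a ^ n ∣ y at hyP
      push Not at hyP
      obtain ⟨n, hn⟩ := hyP
      obtain ⟨c, hc⟩ := (ValuationRing.dvd_total (g a ^ n) y).resolve_left hn
      refine hna (hQ.mem_of_pow_mem n ?_)
      rw [RingHom.comp_apply, ← map_pow, hc, map_mul]
      exact Q.mul_mem_right _ hy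
    · subst h
      rwa [Ideal.mem_bot, RingHom.comp_apply, Ideal.Quotient.eq_zero_iff_mem]
  · intro c hc hu
    haveI : IsLocalHom (Ideal.Quotient.mk P) :=
      IsLocalHom.of_surjective _ Ideal.Quotient.mk_surjective
    exact hgm c hc (isUnit_of_map_unit (Ideal.Quotient.mk P) _ hu)

theorem ideal_comap_opensRange {Z X : Scheme.{u}} [IsAffine Z] (j : Z ⟶ X) [IsOpenImmersion j]
    (I : X.IdealSheafData) (U : X.affineOpens) (hU : j.opensRange = U.1) :
    (I.comap j).ideal ⟨⊤, isAffineOpen_top Z⟩ =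
      (I.ideal U).map (j.appLE U.1 ⊤ (fun z _ => hU ▸ ⟨z, rfl⟩)).hom := by
  have h1 : U = ⟨j ''ᵁ ⊤, (isAffineOpen_top Z).image_of_isOpenImmersion j⟩ :=
    Subtype.ext (by rw [← hU]; exact (j.image_top_eq_opensRange).symm)
  subst h1
  rw [IdealSheafData.ideal_comap_of_isOpenImmersion]
  have h2 : (j.appLE (j ''ᵁ ⊤) ⊤ (j.preimage_image_eq ⊤).ge) = (j.appIso ⊤).hom :=
    (j.appIso_hom' ⊤).symm
  rw [h2]
  exact (Ideal.map_comap_of_equiv (j.appIso ⊤).commRingCatIsoToRingEquiv).symm

theorem comap_eq_ofIdealTop {X Y : Scheme.{u}} [IsAffine X] [IsAffine Y] (f : X ⟶ Y)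
    (J : Y.IdealSheafData) :
    (J.comap f).ideal ⟨⊤, isAffineOpen_top X⟩ =
      (J.ideal ⟨⊤, isAffineOpen_top Y⟩).map f.appTop.hom := by
  refine le_antisymm ?_ ?_
  · have : J.comap f ≤ IdealSheafData.ofIdealTop ((J.ideal ⟨⊤, isAffineOpen_top Y⟩).map f.appTop.hom) := by
      refine IdealSheafData.le_map_iff_comap_le.mp (IdealSheafData.le_of_isAffine ?_)
      rw [IdealSheafData.ideal_map_of_isAffineHom, ← Ideal.map_le_iff_le_comap,
        IdealSheafData.ofIdealTop_ideal]
      refine le_of_eq_of_le ?_ le_rfl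
      show _ = Ideal.map (X.presheaf.map (homOfLE le_top).op).hom _
      erw [X.presheaf.map_id, Ideal.map_id]
      rfl
    refine (this ⟨⊤, isAffineOpen_top X⟩).trans (le_of_eq ?_)
    rw [IdealSheafData.ofIdealTop_ideal]
    erw [X.presheaf.map_id, Ideal.map_id]
  · have := IdealSheafData.le_map_comap (f := f) (J := J) ⟨⊤, isAffineOpen_top Y⟩
    rw [IdealSheafData.ideal_map_of_isAffineHom, ← Ideal.map_le_iff_le_comap] at this
    exact this

/-- The pullback of an ideal sheaf to a ring mapped to by an affine open. -/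
theorem comap_ideal {X : Scheme.{u}} (I : X.IdealSheafData) (U : X.affineOpens) {R : Type u}
    [CommRing R] (φ : Γ(X, U.1) →+* R) :
    (I.comap (Spec.map (CommRingCat.ofHom φ) ≫ U.2.fromSpec)).ideal
        ⟨⊤, isAffineOpen_top (Spec (CommRingCat.of R))⟩ =
      ((I.ideal U).map φ).map (Scheme.ΓSpecIso (CommRingCat.of R)).inv.hom := by
  rw [IdealSheafData.comap_comp, comap_eq_ofIdealTop,
    ideal_comap_opensRange U.2.fromSpec I U U.2.opensRange_fromSpec, Ideal.map_map, Ideal.map_map,
    ← CommRingCat.hom_comp]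
  have h : U.2.fromSpec.appLE U.1 ⊤ (U.2.fromSpec_preimage_self.ge) =
      (Scheme.ΓSpecIso Γ(X, U.1)).inv := by
    rw [Scheme.Hom.appLE, U.2.fromSpec_app_self, Category.assoc, ← Functor.map_comp]
    erw [(Spec Γ(X, U.1)).presheaf.map_id]
    exact Category.comp_id _
  rw [h, ← Scheme.ΓSpecIso_inv_naturality]
  rfl

theorem eq_of_valuation {X : Scheme.{u}} (I J : X.IdealSheafData)
    (hI : BlowUp.IsEffCartierIdeal I) (hJI : J ≤ I)
    (h : ∀ (R : Type u) [CommRing R] [IsDomain R] [ValuationRing R]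
      (p : Spec (CommRingCat.of R) ⟶ X), BlowUp.IsEffCartierIdeal (I.comap p) →
        (∀ x : Spec (CommRingCat.of R),
          x ∈ (ModPair.interior (I.comap p) : Set (Spec (CommRingCat.of R))) ↔ x.asIdeal = ⊥) →
        I.comap p = J.comap p) :
    I = J := by
  classical
  choose U hxU a hanzd hIa using hI
  refine IdealSheafData.ext_of_iSup_eq_top U (eq_top_iff.mpr fun x _ =>
    TopologicalSpace.Opens.mem_iSup.mpr ⟨x, hxU x⟩) fun x => le_antisymm ?_ (hJI (U x))
  rw [hIa x, Ideal.span_singleton_le_iff_mem]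
  let A := Γ(X, (U x).1)
  let C : Ideal A := Submodule.comap (LinearMap.mulLeft A (a x)) (J.ideal (U x))
  by_contra haJ
  have hC : C ≠ ⊤ := fun hC => haJ (by
    have : (1 : A) ∈ C := hC ▸ Submodule.mem_top
    simpa [C] using this)
  obtain ⟨m, hm, hCm⟩ := Ideal.exists_le_maximal C hC
  obtain ⟨R, _, _, _, φ, hφa, hφQ, hφm⟩ := exists_valuation_point (hanzd x) m
  set e := (Scheme.ΓSpecIso (CommRingCat.of R)).inv.hom with he
  set p := Spec.map (CommRingCat.ofHom φ) ≫ (U x).2.fromSpec
  have hIp : (I.comap p).ideal ⟨⊤, isAffineOpen_top _⟩ = Ideal.span {e (φ (a x))} := by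
    rw [comap_ideal, hIa x, Ideal.map_span, Set.image_singleton, Ideal.map_span, Set.image_singleton]
  have heinj : Function.Injective e :=
    (Scheme.ΓSpecIso (CommRingCat.of R)).symm.commRingCatIsoToRingEquiv.injective
  haveI : IsDomain Γ(Spec (CommRingCat.of R), ⊤) :=
    (Scheme.ΓSpecIso (CommRingCat.of R)).commRingCatIsoToRingEquiv.toMulEquiv.isDomain
  have hcart : BlowUp.IsEffCartierIdeal (I.comap p) := fun z =>
    ⟨⟨⊤, isAffineOpen_top _⟩, trivial, e (φ (a x)),
      mem_nonZeroDivisors_of_ne_zero ((map_ne_zero_iff _ heinj).mpr hφa), hIp⟩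
  have hint : ∀ z : Spec (CommRingCat.of R),
      z ∈ (ModPair.interior (I.comap p) : Set (Spec (CommRingCat.of R))) ↔ z.asIdeal = ⊥ := by
    intro z
    refine Iff.trans ?_ (hφQ z.asIdeal z.isPrime)
    have hsupp : I.comap p = IdealSheafData.ofIdealTop (Ideal.span {e (φ (a x))}) :=
      IdealSheafData.ext_of_isAffine (by
        rw [hIp, IdealSheafData.ofIdealTop_ideal]
        erw [(Spec (CommRingCat.of R)).presheaf.map_id, Ideal.map_id])
    show z ∈ ((I.comap p).support : Set _)ᶜ ↔ _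
    rw [Set.mem_compl_iff, hsupp, IdealSheafData.coe_support_ofIdealTop, Scheme.zeroLocus_span,
      Scheme.zeroLocus_singleton, Set.mem_compl_iff, not_not, basicOpen_eq_of_affine]
    exact Iff.rfl
  have heq : (I.comap p).ideal ⟨⊤, isAffineOpen_top _⟩ = (J.comap p).ideal ⟨⊤, isAffineOpen_top _⟩ := by
    rw [h R p hcart hint]
  rw [hIp, comap_ideal, ← Set.image_singleton, ← Ideal.map_span] at heq
  have heq' : Ideal.span {φ (a x)} = (J.ideal (U x)).map φ :=
    by
      have := congrArg (Ideal.comap e) heq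
      rwa [Ideal.comap_map_of_bijective e (ConcreteCategory.bijective_of_isIso _),
        Ideal.comap_map_of_bijective e (ConcreteCategory.bijective_of_isIso _)] at this
  have hle : (J.ideal (U x)).map φ ≤ Ideal.span {φ (a x)} * IsLocalRing.maximalIdeal R := by
    rw [Ideal.map_le_iff_le_comap]
    intro y hy
    have hyI : y ∈ I.ideal (U x) := hJI (U x) hy
    rw [hIa x, Ideal.mem_span_singleton'] at hyI
    obtain ⟨c, rfl⟩ := hyI
    have hc : c ∈ C := by simpa [C, mul_comm] using hy
    rw [Ideal.mem_comap, map_mul, mul_comm (φ c)]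
    exact Ideal.mul_mem_mul (Ideal.mem_span_singleton_self _) (hφm c (hCm hc))
  have hmem : φ (a x) ∈ Ideal.span {φ (a x)} * IsLocalRing.maximalIdeal R :=
    hle (heq' ▸ Ideal.mem_span_singleton_self _)
  obtain ⟨r, hr, hr'⟩ := Ideal.mem_span_singleton_mul.mp hmem
  have : r = 1 := mul_left_cancel₀ hφa (by rw [hr', mul_one])
  exact (IsLocalRing.maximalIdeal.isMaximal R).ne_top ((Ideal.eq_top_iff_one _).mpr (this ▸ hr))

end Groth.Agent.ValTest
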